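import Groth.Agent.Lib.ProjQ9.Basic
import Groth.Agent.Lib.Chow.Prod
import Groth.Prelude.Def_Neron
import Mathlib.RingTheory.DiscreteValuationRing.Basic
import Mathlib.FieldTheory.IntermediateField.Adjoin.Basic

/-!
# Closed subschemes of projective space are defined over finite subextensions
-/

set_option autoImplicit false
set_option linter.style.haveILetI false
set_option backward.isDefEq.respectTransparency false

universe u

open CategoryTheory CategoryTheory.Limits AlgebraicGeometry TopologicalSpace Opposite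

noncomputable section

namespace GrothLib.ProjSubext29

/-- The intersection of a discrete valuation ring with a subfield is a discrete valuation ring. -/
theorem isDVR_of_subfield {L : Type u} [Field L] {OL : Type u} [CommRing OL] [IsDomain OL]
    [IsDiscreteValuationRing OL] (S : Subring L) (F : Subfield L) (φ : S →+* OL) (j : OL →+* L)
    (hφ : ∀ x : S, j (φ x) = (x : L))
    (hS : ∀ z : L, z ∈ F → (∃ y : OL, j y = z) → z ∈ S) (hSF : ∀ x : S, (x : L) ∈ F)
    (ϖ : S) (h0 : ϖ ≠ 0) (hnu : ¬ IsUnit (φ ϖ)) : IsDiscreteValuationRing S := by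
  have hφinj : Function.Injective φ := fun a b h => Subtype.ext (by rw [← hφ a, ← hφ b, h])
  have hdvd : ∀ x y : S, φ x ∣ φ y → x ∣ y := by
    intro x y ⟨c, hc⟩
    by_cases hx : x = 0
    · subst hx
      rw [map_zero, zero_mul] at hc
      rw [hφinj (hc.trans φ.map_zero.symm)]
    have hx' : (x : L) ≠ 0 := fun h => hx (Subtype.ext h)
    have hcz : j c = (y : L) / (x : L) := by
      rw [eq_div_iff hx', ← hφ x, ← hφ y, hc, map_mul, mul_comm]
    refine ⟨⟨j c, hS _ (hcz ▸ F.div_mem (hSF y) (hSF x)) ⟨c, rfl⟩⟩, Subtype.ext ?_⟩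
    show (y : L) = (x : L) * j c
    rw [← hφ x, ← hφ y, hc, map_mul]
  have hunit : ∀ x : S, IsUnit (φ x) → IsUnit x := fun x hx =>
    isUnit_of_dvd_one (hdvd x 1 (by rw [map_one]; exact hx.dvd))
  haveI : IsLocalRing S := IsLocalRing.of_nonunits_add fun a b ha hb hab => by
    have h1 : φ a ∈ IsLocalRing.maximalIdeal OL := fun h => ha (hunit a h)
    have h2 : φ b ∈ IsLocalRing.maximalIdeal OL := fun h => hb (hunit b h)
    have h3 := Ideal.add_mem _ h1 h2
    rw [← map_add] at h3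
    exact h3 (hab.map φ)
  haveI : IsPrincipalIdealRing S := by
    refine ⟨fun I => ?_⟩
    by_cases hI : I = ⊥
    · exact hI ▸ bot_isPrincipal
    obtain ⟨a, haI, ha⟩ := Submodule.exists_mem_ne_zero_of_ne_bot hI
    obtain ⟨_, ⟨b, ⟨hbI, hb⟩, rfl⟩, hmin⟩ := WellFounded.has_min (wellFounded_lt (α := ℕ∞))
      ((fun x : S => IsDiscreteValuationRing.addVal OL (φ x)) '' {x | x ∈ I ∧ x ≠ 0}) ⟨_, a, ⟨haI, ha⟩, rfl⟩
    refine ⟨b, le_antisymm (fun x hx => Ideal.mem_span_singleton.2 (hdvd b x ?_))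
      ((Ideal.span_singleton_le_iff_mem (I := I)).2 hbI)⟩
    by_cases hx0 : x = 0
    · subst hx0; rw [map_zero]; exact dvd_zero _
    exact IsDiscreteValuationRing.addVal_le_iff_dvd.1 (not_lt.1 (hmin _ ⟨x, ⟨hx, hx0⟩, rfl⟩))
  exact { not_a_field' := fun h => h0 (by
    have hm : ϖ ∈ IsLocalRing.maximalIdeal S := fun hu => hnu (hu.map φ)
    rw [h] at hm
    simpa using hm) }

variable (n : ℕ)

/-- The projection to projective space over the integers. -/
abbrev pr (R : CommRingCat.{u}) : CohB1.ProjSpaceOver n (Spec R) ⟶ CohB1.ProjSpace n (ULift.{u} ℤ) :=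
  pullback.fst _ _

/-- The structure map on global sections. -/
def cst (R : CommRingCat.{u}) (U : (CohB1.ProjSpaceOver n (Spec R)).Opens) : R ⟶ Γ(CohB1.ProjSpaceOver n (Spec R), U) :=
  (Scheme.ΓSpecIso R).inv ≫ (CohB1.ProjSpaceOver.toBase n (Spec R)).appLE ⊤ U le_top

instance isAffineHom_pr (R : CommRingCat.{u}) : IsAffineHom (pr n R) :=
  MorphismProperty.pullback_fst (P := @IsAffineHom) _ _ inferInstance

theorem pushout_gen {A B C D : CommRingCat.{u}} {f : A ⟶ B} {g : A ⟶ C} {a : B ⟶ D} {b : C ⟶ D}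
    (h : IsPushout f g a b) (T : Subring D) (ha : ∀ x, a x ∈ T) (hb : ∀ x, b x ∈ T) (d : D) : d ∈ T := by
  let a' : B ⟶ CommRingCat.of T := CommRingCat.ofHom (a.hom.codRestrict T ha)
  let b' : C ⟶ CommRingCat.of T := CommRingCat.ofHom (b.hom.codRestrict T hb)
  have hw : f ≫ a' = g ≫ b' := CommRingCat.hom_ext (RingHom.ext fun x => Subtype.ext
    (congrArg (fun m : A ⟶ D => m x) h.w))
  let r := h.desc a' b' hw
  have hr : r ≫ CommRingCat.ofHom T.subtype = 𝟙 D := by
    refine h.hom_ext ?_ ?_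
    · rw [← Category.assoc, h.inl_desc, Category.comp_id]; rfl
    · rw [← Category.assoc, h.inr_desc, Category.comp_id]; rfl
  rw [show d = (r d).1 from (congrArg (fun m : D ⟶ D => m d) hr).symm]
  exact (r d).2

/-- The sections over an affine chart are generated by those of the chart and the constants. -/
theorem mem_closure (R : CommRingCat.{u}) {V : (CohB1.ProjSpace n (ULift.{u} ℤ)).Opens} (hV : IsAffineOpen V)
    (a : Γ(CohB1.ProjSpaceOver n (Spec R), pr n R ⁻¹ᵁ V)) :
    a ∈ Subring.closure (Set.range ((pr n R).app V) ∪ Set.range (cst n R (pr n R ⁻¹ᵁ V))) := by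
  let U := pr n R ⁻¹ᵁ V
  haveI : IsAffine V.toScheme := hV
  have sq : IsPullback (pr n R ∣_ V) (U.ι ≫ CohB1.ProjSpaceOver.toBase n (Spec R))
      (V.ι ≫ CohB1.ProjSpace.toSpec n (ULift.{u} ℤ)) (specULiftZIsTerminal.from (Spec R)) :=
    (isPullback_morphismRestrict (pr n R) V).paste_vert (IsPullback.of_hasPullback _ _)
  have hpo := isPushout_appTop_of_isPullback sq
  let T := Subring.closure (Set.range ((pr n R).app V) ∪ Set.range (cst n R U))
  have key : ∀ d, d ∈ T.comap U.topIso.hom.hom := by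
    refine pushout_gen hpo _ (fun x => ?_) fun x => ?_
    · have e : (pr n R ∣_ V).appTop ≫ U.topIso.hom = V.topIso.hom ≫ (pr n R).app V := by
        simp [U, Scheme.Hom.appTop, Scheme.Hom.app_eq_appLE, morphismRestrict_appLE, Scheme.Hom.map_appLE, Scheme.Hom.appLE_map, Scheme.Opens.topIso_hom]
      refine Subring.subset_closure (Or.inl ⟨V.topIso.hom x, ?_⟩)
      exact (congrArg (fun m : Γ(V.toScheme, ⊤) ⟶ Γ(CohB1.ProjSpaceOver n (Spec R), U) => m x) e).symm
    · have e : (U.ι ≫ CohB1.ProjSpaceOver.toBase n (Spec R)).appTop ≫ U.topIso.hom =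
          (Scheme.ΓSpecIso R).hom ≫ cst n R U := by
        simp [cst, Scheme.Hom.appTop, Scheme.Hom.appLE, ← Functor.map_comp]
      refine Subring.subset_closure (Or.inr ⟨(Scheme.ΓSpecIso R).hom x, ?_⟩)
      exact (congrArg (fun m : Γ(Spec R, ⊤) ⟶ Γ(CohB1.ProjSpaceOver n (Spec R), U) => m x) e).symm
  have := key (U.topIso.inv a)
  change U.topIso.hom (U.topIso.inv a) ∈ T at this
  rwa [Iso.inv_hom_id_apply] at this

theorem exists_finite_consts (R : CommRingCat.{u}) {V : (CohB1.ProjSpace n (ULift.{u} ℤ)).Opens} (hV : IsAffineOpen V)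
    (a : Γ(CohB1.ProjSpaceOver n (Spec R), pr n R ⁻¹ᵁ V)) :
    ∃ c : Finset R, ∀ T : Subring Γ(CohB1.ProjSpaceOver n (Spec R), pr n R ⁻¹ᵁ V),
      Set.range ((pr n R).app V) ⊆ T → (∀ r ∈ c, cst n R _ r ∈ T) → a ∈ T := by
  classical
  induction mem_closure n R hV a using Subring.closure_induction with
  | mem x hx =>
    rcases hx with hx | ⟨r, rfl⟩
    · exact ⟨∅, fun T hT _ => hT hx⟩
    · exact ⟨{r}, fun T _ hT => hT r (by simp)⟩
  | zero => exact ⟨∅, fun T _ _ => T.zero_mem⟩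
  | one => exact ⟨∅, fun T _ _ => T.one_mem⟩
  | add x y _ _ hx hy =>
    obtain ⟨c, hc⟩ := hx
    obtain ⟨d, hd⟩ := hy
    exact ⟨c ∪ d, fun T h h' => T.add_mem (hc T h fun r hr => h' r (Finset.mem_union_left _ hr))
      (hd T h fun r hr => h' r (Finset.mem_union_right _ hr))⟩
  | neg x _ hx =>
    obtain ⟨c, hc⟩ := hx
    exact ⟨c, fun T h h' => T.neg_mem (hc T h h')⟩
  | mul x y _ _ hx hy =>
    obtain ⟨c, hc⟩ := hx
    obtain ⟨d, hd⟩ := hy
    exact ⟨c ∪ d, fun T h h' => T.mul_mem (hc T h fun r hr => h' r (Finset.mem_union_left _ hr))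
      (hd T h fun r hr => h' r (Finset.mem_union_right _ hr))⟩

theorem exists_consts (R : CommRingCat.{u}) [IsNoetherianRing R] {X : Scheme.{u}}
    (i : X ⟶ CohB1.ProjSpaceOver n (Spec R)) [IsClosedImmersion i]
    [IsLocallyNoetherian (CohB1.ProjSpaceOver n (Spec R))] :
    ∃ c : Finset R, ∀ (A : CommRingCat.{u}) (φ : A ⟶ R), (∀ r ∈ c, r ∈ φ.hom.range) →
      ∃ (X' : Scheme.{u}) (i' : X' ⟶ CohB1.ProjSpaceOver n (Spec A)) (_ : IsClosedImmersion i')
        (e : X ≅ pullback (i' ≫ CohB1.ProjSpaceOver.toBase n (Spec A)) (Spec.map φ)),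
        e.hom ≫ pullback.snd _ _ = i ≫ CohB1.ProjSpaceOver.toBase n (Spec R) := by
  classical
  haveI : IsProper (CohB1.ProjSpace.toSpec n (ULift.{u} ℤ)) := Chow.isProper_toSpec n _
  haveI : CompactSpace (CohB1.ProjSpace n (ULift.{u} ℤ)) :=
    QuasiCompact.compactSpace_of_compactSpace (CohB1.ProjSpace.toSpec n (ULift.{u} ℤ))
  obtain ⟨s, hs⟩ := isCompact_univ.elim_finite_subcover
    (fun V : (CohB1.ProjSpace n (ULift.{u} ℤ)).affineOpens => (V.1 : Set (CohB1.ProjSpace n (ULift.{u} ℤ))))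
    (fun V => V.1.2) (fun x _ => by
      obtain ⟨V, hV, hxV, -⟩ := exists_isAffineOpen_mem_and_subset (show x ∈ (⊤ : (CohB1.ProjSpace n (ULift.{u} ℤ)).Opens) from trivial)
      exact Set.mem_iUnion.2 ⟨⟨V, hV⟩, hxV⟩)
  let UL : (CohB1.ProjSpace n (ULift.{u} ℤ)).affineOpens → (CohB1.ProjSpaceOver n (Spec R)).affineOpens :=
    fun V => ⟨pr n R ⁻¹ᵁ V.1, V.2.preimage _⟩
  have hfg : ∀ V, (i.ker.ideal (UL V)).FG := fun V => by
    haveI := IsLocallyNoetherian.component_noetherian (X := CohB1.ProjSpaceOver n (Spec R)) (UL V)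
    exact IsNoetherian.noetherian _
  choose G hG using hfg
  choose cc hcc using fun (V : (CohB1.ProjSpace n (ULift.{u} ℤ)).affineOpens) a => exists_finite_consts n R V.2 a
  refine ⟨s.biUnion fun V => (G V).biUnion (cc V), fun A φ hc => ?_⟩
  let t : Spec R ⟶ Spec A := Spec.map φ
  let g := ProjQ9.mapBase n t
  have hq := ProjQ9.isPullback_mapBase n t
  haveI : IsAffineHom g := MorphismProperty.of_isPullback (P := @IsAffineHom) hq.flip inferInstance
  have hgp : g ≫ pr n A = pr n R := pullback.lift_fst _ _ _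
  let J := (i ≫ g).ker
  let ι' := J.subschemeι
  let fst := pullback.fst g ι'
  have hker₁ : fst.ker ≤ i.ker := by
    have hfac : (i ≫ g).toImage ≫ ι' = i ≫ g := (i ≫ g).toImage_imageι
    let l : X ⟶ pullback g ι' := pullback.lift i (i ≫ g).toImage hfac.symm
    have hl : l ≫ fst = i := pullback.lift_fst _ _ _
    rw [← hl]
    exact Scheme.Hom.le_ker_comp _ _
  have hker₂ : i.ker ≤ fst.ker := by
    refine Scheme.IdealSheafData.le_of_iSup_eq_top (fun V : s => UL V.1) ?_ fun V => ?_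
    · refine top_le_iff.1 fun x _ => Opens.mem_iSup.2 ?_
      obtain ⟨V, hV⟩ := Set.mem_iUnion.1 (hs (Set.mem_univ (pr n R x)))
      obtain ⟨hVs, hxV⟩ := Set.mem_iUnion.1 hV
      exact ⟨⟨V, hVs⟩, hxV⟩
    rw [← hG V.1, Ideal.span_le]
    intro a ha
    let U' : (CohB1.ProjSpaceOver n (Spec A)).affineOpens := ⟨pr n A ⁻¹ᵁ V.1.1, V.1.2.preimage _⟩
    have hle : (UL V.1).1 ≤ g ⁻¹ᵁ U'.1 := by
      show pr n R ⁻¹ᵁ V.1.1 ≤ g ⁻¹ᵁ (pr n A ⁻¹ᵁ V.1.1)
      rw [← Scheme.Hom.comp_preimage, hgp]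
    let gs := g.appLE U'.1 (UL V.1).1 hle
    have hrange : a ∈ gs.hom.range := by
      refine hcc V.1 a gs.hom.range ?_ fun r hr => ?_
      · rintro _ ⟨z, rfl⟩
        refine ⟨(pr n A).app V.1.1 z, ?_⟩
        show ((pr n A).app V.1.1 ≫ g.appLE U'.1 (UL V.1).1 hle) z = (pr n R).app V.1.1 z
        rw [Scheme.Hom.app_eq_appLE, Scheme.Hom.appLE_comp_appLE, Scheme.Hom.app_eq_appLE]
        simp only [hgp]
        rfl
      · obtain ⟨r', rfl⟩ := hc r (Finset.mem_biUnion.2 ⟨V.1, V.2, Finset.mem_biUnion.2 ⟨a, ha, hr⟩⟩)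
        refine ⟨cst n A U'.1 r', ?_⟩
        show (cst n A U'.1 ≫ g.appLE U'.1 (UL V.1).1 hle) r' = (φ ≫ cst n R (UL V.1).1) r'
        refine congrArg (fun m : A ⟶ Γ(CohB1.ProjSpaceOver n (Spec R), (UL V.1).1) => m r') ?_
        simp only [cst, Category.assoc, Scheme.Hom.appLE_comp_appLE]
        have he : g ≫ CohB1.ProjSpaceOver.toBase n (Spec A) = CohB1.ProjSpaceOver.toBase n (Spec R) ≫ t := hq.w
        simp only [he, Scheme.Hom.comp_appLE]
        rw [← Category.assoc φ, Scheme.ΓSpecIso_inv_naturality, Category.assoc]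
        rfl
    obtain ⟨a', rfl⟩ := hrange
    have haI : gs a' ∈ i.ker.ideal (UL V.1) := hG V.1 ▸ Ideal.subset_span ha
    rw [Scheme.Hom.ker_apply, RingHom.mem_ker] at haI
    have ha' : a' ∈ J.ideal U' := by
      rw [Scheme.Hom.ker_apply, RingHom.mem_ker, Scheme.Hom.app_eq_appLE]
      have hle' : (i ≫ g) ⁻¹ᵁ U'.1 ≤ i ⁻¹ᵁ (UL V.1).1 := by
        show i ⁻¹ᵁ (g ⁻¹ᵁ (pr n A ⁻¹ᵁ V.1.1)) ≤ i ⁻¹ᵁ (pr n R ⁻¹ᵁ V.1.1)
        rw [← Scheme.Hom.comp_preimage g (pr n A), hgp]
      rw [← Scheme.Hom.appLE_comp_appLE i g U'.1 (UL V.1).1 _ hle hle']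
      show i.appLE (UL V.1).1 _ hle' (gs a') = 0
      rw [Scheme.Hom.appLE]
      show X.presheaf.map _ (i.app (UL V.1).1 (gs a')) = 0
      rw [haI, map_zero]
    rw [← Scheme.IdealSheafData.ker_subschemeι J, Scheme.Hom.ker_apply, RingHom.mem_ker] at ha'
    show gs a' ∈ fst.ker.ideal (UL V.1)
    rw [Scheme.Hom.ker_apply, RingHom.mem_ker, Scheme.Hom.app_eq_appLE]
    show (g.appLE U'.1 (UL V.1).1 hle ≫ fst.appLE (UL V.1).1 (fst ⁻¹ᵁ (UL V.1).1) le_rfl) a' = 0
    rw [Scheme.Hom.appLE_comp_appLE]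
    simp only [show fst ≫ g = pullback.snd g ι' ≫ ι' from pullback.condition, Scheme.Hom.comp_appLE]
    show (pullback.snd g ι').appLE _ _ _ (ι'.app U'.1 a') = 0
    rw [ha', map_zero]
  haveI : IsClosedImmersion fst := inferInstance
  let l₀ := IsClosedImmersion.lift fst i hker₁
  have hl₀ : l₀ ≫ fst = i := IsClosedImmersion.lift_fac _ _ _
  haveI : IsIso l₀ := IsClosedImmersion.isIso_of_ker_eq i fst l₀ hl₀ (le_antisymm hker₂ hker₁)
  have sq := (IsPullback.of_hasPullback g ι').flip.paste_vert hq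
  refine ⟨J.subscheme, ι', inferInstance, asIso l₀ ≪≫ sq.isoPullback, ?_⟩
  rw [Iso.trans_hom, Category.assoc, sq.isoPullback_hom_snd, asIso_hom, reassoc_of% hl₀]

theorem main (OK OL K L : Type u) [CommRing OK] [IsDomain OK] [IsDiscreteValuationRing OK]
    [CommRing OL] [IsDomain OL] [IsDiscreteValuationRing OL] [Field K] [Field L]
    [Algebra OK K] [IsFractionRing OK K] [Algebra OL L] [IsFractionRing OL L]
    [Algebra OK OL] [Algebra K L] [Algebra OK L] [IsScalarTower OK OL L] [IsScalarTower OK K L]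
    (hinj : Function.Injective (algebraMap OK OL)) (hloc : IsLocalHom (algebraMap OK OL))
    [Algebra.IsAlgebraic K L]
    {X : Scheme.{u}} (p : X ⟶ Spec (CommRingCat.of OL)) (hp : Neron.IsProjectiveOver OL (Over.mk p)) :
    ∃ (K' : IntermediateField K L) (_ : FiniteDimensional K K')
      (φ : ↥((algebraMap OL L).range ⊓ K'.toSubring) →+* OL)
      (_ : ∀ x : ↥((algebraMap OL L).range ⊓ K'.toSubring), algebraMap OL L (φ x) = (x : L))
      (_ : IsDiscreteValuationRing ↥((algebraMap OL L).range ⊓ K'.toSubring))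
      (X' : Scheme.{u}) (p' : X' ⟶ Spec (CommRingCat.of ↥((algebraMap OL L).range ⊓ K'.toSubring)))
      (_ : Neron.IsProjectiveOver ↥((algebraMap OL L).range ⊓ K'.toSubring) (Over.mk p'))
      (e : X ≅ pullback p' (Spec.map (CommRingCat.ofHom φ))),
      e.hom ≫ pullback.snd p' (Spec.map (CommRingCat.ofHom φ)) = p := by
  obtain ⟨n, i, hi, hip⟩ := hp
  haveI : IsClosedImmersion i := hi
  haveI : IsProper (CohB1.ProjSpace.toSpec n (ULift.{u} ℤ)) := Chow.isProper_toSpec n _
  haveI : LocallyOfFiniteType (CohB1.ProjSpaceOver.toBase n (Spec (CommRingCat.of OL))) :=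
    inferInstanceAs (LocallyOfFiniteType (pullback.snd _ _))
  haveI : IsLocallyNoetherian (CohB1.ProjSpaceOver n (Spec (CommRingCat.of OL))) :=
    LocallyOfFiniteType.isLocallyNoetherian (CohB1.ProjSpaceOver.toBase n (Spec (CommRingCat.of OL)))
  haveI : IsNoetherianRing (CommRingCat.of OL) := inferInstanceAs (IsNoetherianRing OL)
  obtain ⟨c, hc⟩ := exists_consts n (CommRingCat.of OL) i
  let K' : IntermediateField K L := IntermediateField.adjoin K ((algebraMap OL L) '' (c : Set OL))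
  have hfd : FiniteDimensional K K' :=
    IntermediateField.finiteDimensional_adjoin (S := (algebraMap OL L) '' (c : Set OL))
      fun x _ => (Algebra.IsAlgebraic.isAlgebraic x).isIntegral
  let S := (algebraMap OL L).range ⊓ K'.toSubring
  have hj : Function.Injective (algebraMap OL L) := IsFractionRing.injective OL L
  let eR : OL ≃+* (algebraMap OL L).range := RingEquiv.ofBijective (algebraMap OL L).rangeRestrict
    ⟨fun a b h => hj (congrArg Subtype.val h), RingHom.rangeRestrict_surjective _⟩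
  let φ : S →+* OL := eR.symm.toRingHom.comp (Subring.inclusion inf_le_left)
  have hφ : ∀ x : S, algebraMap OL L (φ x) = (x : L) := fun x =>
    congrArg Subtype.val (eR.apply_symm_apply (Subring.inclusion inf_le_left x))
  obtain ⟨π, hπ⟩ := IsDiscreteValuationRing.exists_irreducible OK
  have hmem : algebraMap OK L π ∈ S := by
    refine ⟨⟨algebraMap OK OL π, (IsScalarTower.algebraMap_apply OK OL L π).symm⟩, ?_⟩
    rw [IsScalarTower.algebraMap_apply OK K L]
    exact K'.algebraMap_mem _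
  have hdvr : IsDiscreteValuationRing S := by
    refine isDVR_of_subfield S K'.toSubfield φ (algebraMap OL L) hφ (fun z hz hy => ⟨hy, hz⟩)
      (fun x => x.2.2) ⟨_, hmem⟩ (fun h => ?_) fun h => ?_
    · have h0 : algebraMap OK L π = 0 := congrArg Subtype.val h
      rw [IsScalarTower.algebraMap_apply OK OL L, map_eq_zero_iff _ hj, map_eq_zero_iff _ hinj] at h0
      exact hπ.ne_zero h0
    · have he : φ ⟨_, hmem⟩ = algebraMap OK OL π := hj ((hφ _).trans (IsScalarTower.algebraMap_apply OK OL L π))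
      rw [he] at h
      exact hπ.not_isUnit (hloc.map_nonunit π h)
  obtain ⟨X', i', hi', e, he⟩ := hc (CommRingCat.of S) (CommRingCat.ofHom φ) fun r hr =>
    ⟨⟨algebraMap OL L r, ⟨r, rfl⟩, IntermediateField.subset_adjoin K _ ⟨r, hr, rfl⟩⟩, hj (hφ _)⟩
  refine ⟨K', hfd, φ, hφ, hdvr, X', i' ≫ CohB1.ProjSpaceOver.toBase n _, ⟨n, i', hi', rfl⟩, e, ?_⟩
  exact he.trans hip

end GrothLib.ProjSubext29
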